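import Cfsg.Agent.H884.NA.Emb

/-!
# S3509, exceptional row: the configurations (helper884)
-/

set_option autoImplicit false
set_option linter.unusedSectionVars false
set_option maxRecDepth 100000

namespace Cfsg.Agent.H884.NA

open Equiv Equiv.Perm

/-- points -/
abbrev P {J n L : ℕ} (j : Fin J) (e : Fin n) : (Fin J × Fin n) ⊕ Fin L := Sum.inl (j, e)

/-- fixed points -/
abbrev Q {J n L : ℕ} (l : Fin L) : (Fin J × Fin n) ⊕ Fin L := Sum.inr l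

/-- the basic word -/
abbrev w0 {I : Type*} (x c : Perm I) : Perm I := c⁻¹ * x * c * x⁻¹

/-- `p = 2`, two 2-cycles and three fixed points -/
abbrev c2a : Perm ((Fin 2 × Fin 2) ⊕ Fin 3) :=
  swap (P 0 0) (Q 1) * swap (Q 1) (P 0 1) * swap (P 0 1) (Q 0) * swap (P 1 1) (Q 2)

/-- `p = 2`, three 2-cycles and a fixed point -/
abbrev c2b : Perm ((Fin 3 × Fin 2) ⊕ Fin 1) := swap (P 0 0) (Q 0) * swap (P 1 0) (P 2 0)

/-- `p = 2`, five 2-cycles -/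
abbrev c2c : Perm ((Fin 5 × Fin 2) ⊕ Fin 0) :=
  swap (P 0 0) (P 2 0) * swap (P 2 0) (P 2 1) * swap (P 2 1) (P 4 1) * swap (P 4 1) (P 1 1) *
    swap (P 1 1) (P 3 0) * swap (P 0 1) (P 4 0)

/-- `p = 3`, two 3-cycles and a fixed point -/
abbrev c3a : Perm ((Fin 2 × Fin 3) ⊕ Fin 1) :=
  swap (P 0 0) (P 0 1) * swap (P 0 1) (P 1 0) * swap (P 1 0) (P 1 1) * swap (P 1 1) (Q 0)

/-- `p = 3`, three 3-cycles -/
abbrev c3b : Perm ((Fin 3 × Fin 3) ⊕ Fin 0) := swap (P 0 0) (P 0 1) * swap (P 1 0) (P 2 0)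

/-- `p = 5`, two 5-cycles -/
abbrev c5a : Perm ((Fin 2 × Fin 5) ⊕ Fin 0) :=
  swap (P 0 0) (P 0 1) * swap (P 0 1) (P 0 3) * swap (P 0 3) (P 1 0) * swap (P 1 0) (P 1 1)

/-- `p = 5`, a 5-cycle and two fixed points -/
abbrev c5b : Perm ((Fin 1 × Fin 5) ⊕ Fin 2) := swap (P 0 0) (P 0 2) * swap (P 0 2) (Q 0)

theorem s2a : sign c2a = 1 := by decide +kernel
theorem s2b : sign c2b = 1 := by decide +kernel
theorem s2c : sign c2c = 1 := by decide +kernel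
theorem s3a : sign c3a = 1 := by decide +kernel
theorem s3b : sign c3b = 1 := by decide +kernel
theorem s5a : sign c5a = 1 := by decide +kernel
theorem s5b : sign c5b = 1 := by decide +kernel

theorem a2a : (w0 (x0 1 2 3) c2a) ^ (2 * 3) = 1 := by decide +kernel
theorem b2a : (w0 (x0 1 2 3) c2a) ^ 3 ≠ 1 := by decide +kernel
theorem d2a : (w0 (x0 1 2 3) c2a) ^ 2 * x0 1 2 3 ≠ x0 1 2 3 * (w0 (x0 1 2 3) c2a) ^ 2 := by decide +kernel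

theorem a2b : (w0 (x0 1 3 1) c2b) ^ (2 * 3) = 1 := by decide +kernel
theorem b2b : (w0 (x0 1 3 1) c2b) ^ 3 ≠ 1 := by decide +kernel
theorem d2b : (w0 (x0 1 3 1) c2b) ^ 2 * x0 1 3 1 ≠ x0 1 3 1 * (w0 (x0 1 3 1) c2b) ^ 2 := by decide +kernel

theorem a2c : (w0 (x0 1 5 0) c2c) ^ (2 * 3) = 1 := by decide +kernel
theorem b2c : (w0 (x0 1 5 0) c2c) ^ 3 ≠ 1 := by decide +kernel
theorem d2c : (w0 (x0 1 5 0) c2c) ^ 2 * x0 1 5 0 ≠ x0 1 5 0 * (w0 (x0 1 5 0) c2c) ^ 2 := by decide +kernel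

theorem a3a : (w0 (x0 2 2 1) c3a) ^ (3 * 2) = 1 := by decide +kernel
theorem b3a : (w0 (x0 2 2 1) c3a) ^ 2 ≠ 1 := by decide +kernel
theorem d3a : (w0 (x0 2 2 1) c3a) ^ 3 * x0 2 2 1 ≠ x0 2 2 1 * (w0 (x0 2 2 1) c3a) ^ 3 := by decide +kernel

theorem a3b : (w0 (x0 2 3 0) c3b) ^ (3 * 2) = 1 := by decide +kernel
theorem b3b : (w0 (x0 2 3 0) c3b) ^ 2 ≠ 1 := by decide +kernel
theorem d3b : (w0 (x0 2 3 0) c3b) ^ 3 * x0 2 3 0 ≠ x0 2 3 0 * (w0 (x0 2 3 0) c3b) ^ 3 := by decide +kernel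

theorem a5a : (w0 (x0 4 2 0) c5a) ^ (5 * 3) = 1 := by decide +kernel
theorem b5a : (w0 (x0 4 2 0) c5a) ^ 3 ≠ 1 := by decide +kernel
theorem d5a : (w0 (x0 4 2 0) c5a) ^ 5 * x0 4 2 0 ≠ x0 4 2 0 * (w0 (x0 4 2 0) c5a) ^ 5 := by decide +kernel

/-- `p = 5`, conjugates of the basic word -/
abbrev g5 (j : ℕ) : Perm ((Fin 1 × Fin 5) ⊕ Fin 2) := (x0 4 1 2) ^ j * w0 (x0 4 1 2) c5b * ((x0 4 1 2) ^ j)⁻¹

theorem a5b : (g5 0 * g5 0 * g5 2) ^ 3 = 1 := by decide +kernel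
theorem b5b : (g5 1 * g5 4 * g5 4) ^ 3 = 1 := by decide +kernel
theorem a5b' : (g5 0 * g5 0 * g5 2) ≠ 1 := by decide +kernel
theorem b5b' : (g5 1 * g5 4 * g5 4) ≠ 1 := by decide +kernel
theorem d5b : (g5 0 * g5 0 * g5 2) * (g5 1 * g5 4 * g5 4) = (g5 1 * g5 4 * g5 4) * (g5 0 * g5 0 * g5 2) := by
  decide +kernel
theorem e5b : (g5 1 * g5 4 * g5 4) ≠ (g5 0 * g5 0 * g5 2) := by decide +kernel
theorem f5b : (g5 1 * g5 4 * g5 4) ≠ (g5 0 * g5 0 * g5 2) * (g5 0 * g5 0 * g5 2) := by decide +kernel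

end Cfsg.Agent.H884.NA
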